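import Groth.Agent.Grp57.Prod
import Groth.Agent.Alb96.GeomInt
import Groth.Agent.AbSch7.SmoothFib
import Groth.Agent.RedPts82.UnitExtend

/-! A curve disjoint from a prime divisor of a group variety translates it to itself. -/

set_option autoImplicit false
set_option linter.style.haveILetI false
universe u

open CategoryTheory CategoryTheory.Limits MonoidalCategory CartesianMonoidalCategory MonObj GrpObj AlgebraicGeometry

noncomputable section

namespace Groth.Agent.Hopf35.TransDiv

variable {k : Type u} [Field k] [IsAlgClosed k] {A : Over (Spec (CommRingCat.of k))} [GrpObj A]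

theorem over_left_apply {X Y Z : Over (Spec (CommRingCat.of k))} (f : X ⟶ Y) (g : Y ⟶ Z) (z : X.left) :
    g.left (f.left z) = (f ≫ g).left z := rfl

/-- Right translation by a rational point. -/
def transl (p : 𝟙_ (Over (Spec (CommRingCat.of k))) ⟶ A) : A ⟶ A := 𝟙 A * (toUnit A ≫ p)

theorem transl_comp (p q : 𝟙_ (Over (Spec (CommRingCat.of k))) ⟶ A) :
    transl p ≫ transl q = transl (p * q) := by
  rw [transl, transl, transl, MonObj.comp_mul, Category.comp_id, ← Category.assoc, Subsingleton.elim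
    ((𝟙 A * (toUnit A ≫ p)) ≫ toUnit A) (toUnit A), MonObj.comp_mul, _root_.mul_assoc]

theorem transl_one : transl (1 : 𝟙_ (Over (Spec (CommRingCat.of k))) ⟶ A) = 𝟙 A := by
  rw [transl, MonObj.comp_one, _root_.mul_one]

theorem isIso_transl (p : 𝟙_ (Over (Spec (CommRingCat.of k))) ⟶ A) : IsIso (transl p).left := by
  have : IsIso (transl p) := ⟨transl p⁻¹, by rw [transl_comp, mul_inv_cancel, transl_one],
    by rw [transl_comp, inv_mul_cancel, transl_one]⟩
  exact inferInstanceAs (IsIso ((Over.forget _).map (transl p)))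

theorem preimage_transl_eq [IsProper A.hom] [IsIntegral A.left] [IsCommMonObj A]
    (Δ : Set A.left) (hΔ : IsClosed Δ) (ξ : A.left) (hξ : closure {ξ} = Δ)
    (hcodim : ringKrullDim (A.left.presheaf.stalk ξ) = 1)
    (C : Set A.left) (hC : IsClosed C) (hCirr : IsIrreducible C) (hdisj : Disjoint C Δ)
    (x y : 𝟙_ (Over (Spec (CommRingCat.of k))) ⟶ A)
    (hx : Set.range x.left.base ⊆ C) (hy : Set.range y.left.base ⊆ C) :
    (transl (x * y⁻¹)).left.base ⁻¹' Δ = Δ := by
  let φ : A ⊗ A ⟶ A := snd A A * (fst A A)⁻¹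
  let T₀ : Set (A ⊗ A).left := (fst A A).left ⁻¹' C ∩ (snd A A).left ⁻¹' Δ
  have hΔirr : IsIrreducible Δ := hξ ▸ isIrreducible_singleton.closure
  have hT₀ : IsIrreducible T₀ := Grp57.isIrreducible_prod A.hom A.hom hCirr hΔirr hΔ
  have hT₀c : IsClosed T₀ := (hC.preimage (fst A A).left.continuous).inter (hΔ.preimage (snd A A).left.continuous)
  haveI : IsProper (A ⊗ A).hom :=
    MorphismProperty.comp_mem @IsProper (pullback.fst A.hom A.hom) A.hom inferInstance inferInstance
  haveI : IsProper (φ.left ≫ A.hom) := by rw [Over.w φ]; infer_instance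
  haveI : IsProper φ.left := IsProper.of_comp φ.left A.hom
  let S := φ.left '' T₀
  have hSc : IsClosed S := φ.left.isClosedMap _ hT₀c
  have hSirr : IsIrreducible S := hT₀.image _ φ.left.continuous.continuousOn
  let e : A.left := (1 : 𝟙_ (Over (Spec (CommRingCat.of k))) ⟶ A).left (IsLocalRing.closedPoint k)
  have he : IsClosed ({e} : Set A.left) :=
    ((pointEquivClosedPoint A.hom) ⟨(1 : 𝟙_ (Over (Spec (CommRingCat.of k))) ⟶ A).left, Over.w _⟩).2
  have heS : e ∉ S := by
    rintro ⟨z₀, hz₀, hze⟩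
    haveI : JacobsonSpace ↥(A ⊗ A).left := LocallyOfFiniteType.jacobsonSpace (A ⊗ A).hom
    obtain ⟨z, ⟨hzT, hzφ⟩, hz⟩ := nonempty_inter_closedPoints (Z := T₀ ∩ φ.left ⁻¹' {e})
      ⟨z₀, hz₀, hze⟩ (hT₀c.inter (he.preimage φ.left.continuous)).isLocallyClosed
    obtain ⟨⟨c, hc⟩, hcz⟩ := (pointEquivClosedPoint (A ⊗ A).hom).surjective ⟨z, hz⟩
    let r : 𝟙_ (Over (Spec (CommRingCat.of k))) ⟶ A ⊗ A := Over.homMk c hc
    have hrz : r.left (IsLocalRing.closedPoint k) = z := congrArg Subtype.val hcz
    have hr1 : r ≫ φ = 1 := by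
      ext1
      refine ext_of_apply_closedPoint_eq A.hom (Over.w _) (Over.w _) ?_
      show φ.left (r.left _) = e
      rw [hrz]; exact hzφ
    rw [MonObj.comp_mul, GrpObj.comp_inv, mul_inv_eq_one] at hr1
    have h1 : (r ≫ fst A A).left (IsLocalRing.closedPoint k) ∈ C := by
      show (fst A A).left (r.left (IsLocalRing.closedPoint k)) ∈ C
      rw [hrz]; exact hzT.1
    have h2 : (r ≫ fst A A).left (IsLocalRing.closedPoint k) ∈ Δ := by
      rw [← hr1]
      show (snd A A).left (r.left (IsLocalRing.closedPoint k)) ∈ Δ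
      rw [hrz]; exact hzT.2
    exact Set.disjoint_left.1 hdisj h1 h2
  obtain ⟨σ, hσ⟩ := QuasiSober.sober hSirr hSc
  have key : ∀ p : 𝟙_ (Over (Spec (CommRingCat.of k))) ⟶ A, Set.range p.left.base ⊆ C →
      (transl p⁻¹).left ξ = σ := by
    intro p hp
    haveI := isIso_transl p⁻¹
    have hmem : (transl p⁻¹).left ξ ∈ S := by
      refine ⟨(lift (toUnit A ≫ p) (𝟙 A)).left ξ, ⟨?_, ?_⟩, ?_⟩
      · rw [Set.mem_preimage, over_left_apply, lift_fst]
        exact hp ⟨_, rfl⟩
      · rw [Set.mem_preimage, over_left_apply, lift_snd]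
        exact hξ ▸ subset_closure rfl
      · rw [over_left_apply]
        simp only [φ, MonObj.comp_mul, GrpObj.comp_inv, lift_snd, lift_fst, transl]
    have hdim : ringKrullDim (A.left.presheaf.stalk ((transl p⁻¹).left ξ)) = 1 := by
      rw [ringKrullDim_eq_of_ringEquiv (asIso ((transl p⁻¹).left.stalkMap ξ)).commRingCatIsoToRingEquiv]
      exact hcodim
    rcases RedPts82.UnitExt.eq_or_eq_genericPoint (hσ.specializes hmem) hdim.le with h | h
    · exact h.symm
    · exfalso
      exact heS ((genericPoint_specializes e).mem_closed hSc (h ▸ hσ.mem))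
  have hxy := (key x hx).trans (key y hy).symm
  haveI := isIso_transl (x * y⁻¹)
  have hfix : (transl (x * y⁻¹)).left ξ = ξ := by
    have h := congrArg (transl x).left hxy
    rw [over_left_apply, over_left_apply, transl_comp, transl_comp, inv_mul_cancel, transl_one,
      mul_comm] at h
    exact h.symm
  let h := (transl (x * y⁻¹)).left.homeomorph
  conv_lhs => rw [← hξ, show (ξ : A.left) = h ξ from hfix.symm]
  rw [← hξ, ← Set.image_singleton, ← h.image_closure]
  exact h.preimage_image _

end Groth.Agent.Hopf35.TransDiv
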